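import Cfsg.Agent.CG26.G2Inv.Cent
import Cfsg.Agent.BC85.G2.Sylow
import Cfsg.Agent.Lib.LinearGroup.Card
import Cfsg.Agent.Lib.Reflections.OddIndex
import Cfsg.Agent.ChevGroup.Mat.OrderG2
import Mathlib.GroupTheory.PGroup

/-!
Involutions of G2 over a finite field of odd order: one class, centraliser `(SL₂ ∘ SL₂).2`.
-/

set_option autoImplicit false
set_option linter.unusedSectionVars false

namespace Cfsg.Agent.CG26.G2Inv

open Cfsg.Lie Cfsg.Agent.ChevGroup Cfsg.Agent.ChevCore Cfsg.Agent.ChevTori Matrix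
open Cfsg.Agent.ChevGroup.TypeG2 (model wit_ok longest_ok pos_span)
open scoped MatrixGroups

variable {F : Type*} [Field F] [Fintype F]

theorem sl_center {p : SL(2, F)} (h : ∀ q, Commute p q) : p = 1 ∨ p = -1 := by
  have e1 := congrArg (fun g : SL(2, F) => (g : Matrix (Fin 2) (Fin 2) F)) (h (slU 1)).eq
  have e2 := congrArg (fun g : SL(2, F) => (g : Matrix (Fin 2) (Fin 2) F)) (h (slL 1)).eq
  have a1 := congrFun (congrFun e1 0) 0
  have a2 := congrFun (congrFun e1 0) 1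
  have a3 := congrFun (congrFun e2 0) 0
  simp [coe_slU, coe_slL, Matrix.mul_apply, Fin.sum_univ_two] at a1 a2 a3
  have hd := p.det_coe
  have h01 : p.1 0 1 = 0 := by linear_combination a3
  have h10 : p.1 1 0 = 0 := by linear_combination a1
  have h11 : p.1 1 1 = p.1 0 0 := by linear_combination -a2
  rw [Matrix.det_fin_two, h01, h11, zero_mul, sub_zero] at hd
  rcases mul_self_eq_one_iff.mp hd with ha | ha
  · exact Or.inl (Subtype.ext (by ext i j; fin_cases i <;> fin_cases j <;> simp [h01, h10, h11, ha]))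
  · exact Or.inr (Subtype.ext (by
      ext i j; fin_cases i <;> fin_cases j <;>
        simp [h01, h10, h11, ha, Matrix.SpecialLinearGroup.coe_neg]))

/-- A row companion basis with determinant one. -/
theorem exists_companion (h2 : (2 : F) ≠ 0) {M : Matrix (Fin 2) (Fin 2) F} {δ : F}
    (htr : M 1 1 = -M 0 0) (hdet : M.det = δ) (hδ : δ ≠ 0) :
    ∃ g : SL(2, F), (g : Matrix (Fin 2) (Fin 2) F) * M = !![0, 1; -δ, 0] * (g : Matrix (Fin 2) (Fin 2) F) := by
  rw [Matrix.det_fin_two, htr] at hdet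
  obtain ⟨x, y, hxy⟩ : ∃ x y : F,
      M 0 1 * x ^ 2 - 2 * M 0 0 * x * y - M 1 0 * y ^ 2 = 1 := by
    by_cases hb : M 0 1 = 0
    · have ha : M 0 0 ≠ 0 := fun e => hδ (by rw [← hdet, e, hb]; ring)
      exact ⟨-(1 + M 1 0) / (2 * M 0 0), 1, by rw [hb]; field_simp; ring⟩
    · obtain ⟨X, y, h⟩ := Reflections.exists_sum_sq h2 hb (div_ne_zero hδ hb) 1
      refine ⟨X + M 0 0 / M 0 1 * y, y, ?_⟩
      rw [← h, ← hdet]
      field_simp
      ring
  refine ⟨⟨!![x, y; x * M 0 0 + y * M 1 0, x * M 0 1 + y * M 1 1], ?_⟩, ?_⟩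
  · rw [Matrix.det_fin_two_of, htr]; linear_combination hxy
  · ext i j
    fin_cases i <;> fin_cases j <;> simp [Matrix.mul_apply, Fin.sum_univ_two, htr, ← hdet] <;> ring

/-- The matrix of a monomial element of order four. -/
noncomputable abbrev JJ (F : Type*) [Field F] : SL(2, F) := pn slU slL 1

/-- The product of the two monomial elements. -/
noncomputable def j0 : GG F := Phi (JJ F, JJ F)

/-- The image of `SL₂ ∘ SL₂`. -/
noncomputable def LL (F : Type*) [Field F] : Subgroup (GG F) := (Phi (F := F)).range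

theorem LL_le : LL F ≤ CC F := by
  rintro _ ⟨p, rfl⟩; exact Phi_mem_CC p

theorem phi_centralizes {p q : SL(2, F)} (h : phi ir p = phi ia q) : p = 1 ∨ p = -1 :=
  sl_center fun r => phi_ir_inj (F := F) (by
    rw [map_mul, map_mul, h]; exact (phi_comm r q).eq.symm)

theorem mem_ker_Phi (h2 : (2 : F) ≠ 0) {p : SL(2, F) × SL(2, F)} :
    Phi p = 1 ↔ p = 1 ∨ p = ((-1 : SL(2, F)), (-1 : SL(2, F))) := by
  constructor
  · intro h
    have h' : phi ir p.1 = phi ia p.2⁻¹ := by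
      rw [map_inv]; exact eq_inv_of_mul_eq_one_left h
    rcases phi_centralizes h' with e | e
    · refine Or.inl (Prod.ext e (inv_eq_one.1 (phi_ia_inj (F := F) ?_)))
      rw [← h', e, map_one, map_one]
    · refine Or.inr (Prod.ext e ?_)
      have : p.2⁻¹ = -1 := phi_ia_inj (F := F) (by rw [← h', e, phi_ir_neg_one, phi_ia_neg_one])
      show p.2 = -1
      rw [← inv_inv p.2, this]
      exact inv_eq_of_mul_eq_one_right (by simp)
  · rintro (rfl | rfl)
    · exact map_one _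
    · exact Phi_neg_one

theorem one_ne_neg_one (h2 : (2 : F) ≠ 0) : (1 : SL(2, F)) ≠ -1 := fun e => h2 (by
  have := congrArg (fun g : SL(2, F) => (g : Matrix (Fin 2) (Fin 2) F) 0 0) e
  simp [Matrix.SpecialLinearGroup.coe_neg] at this
  linear_combination this)

theorem card_LL (h2 : (2 : F) ≠ 0) : 2 * Nat.card (LL F) = Nat.card SL(2, F) ^ 2 := by
  classical
  have hk : Nat.card (Phi (F := F)).ker = 2 := by
    rw [← SetLike.coe_sort_coe, Nat.card_coe_set_eq,
      show ((Phi (F := F)).ker : Set (SL(2, F) × SL(2, F))) = {1, ((-1 : SL(2, F)), (-1 : SL(2, F)))} from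
        Set.ext fun p => mem_ker_Phi h2,
      Set.ncard_pair fun e => one_ne_neg_one h2 (congrArg Prod.fst e)]
  have := Subgroup.card_mul_index (Phi (F := F)).ker
  rw [hk, Subgroup.index_ker, Nat.card_prod, ← pow_two] at this
  exact this

theorem conj_x_Phi (p : SL(2, F) × SL(2, F)) (q : SL(2, F)) :
    Phi p * phi ia q * (Phi p)⁻¹ = phi ia (p.2 * q * p.2⁻¹) := by
  rw [Phi_apply, map_mul, map_mul, map_inv, _root_.mul_inv_rev]
  have h := (phi_comm (F := F) p.1 (p.2 * q * p.2⁻¹)).eq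
  rw [map_mul, map_mul, map_inv] at h
  calc _ = phi ir p.1 * (phi ia p.2 * phi ia q * (phi ia p.2)⁻¹) * (phi ir p.1)⁻¹ := by group
    _ = _ := by rw [h, mul_inv_cancel_right]

theorem entries_of_normalizes {p : SL(2, F)} {c : F} (h : p * slU 1 * p⁻¹ = slU c) :
    p.1 1 0 = 0 ∧ c = p.1 0 0 ^ 2 := by
  rw [mul_inv_eq_iff_eq_mul] at h
  have e := congrArg (fun g : SL(2, F) => (g : Matrix (Fin 2) (Fin 2) F)) h
  have a00 := congrFun (congrFun e 0) 0
  have a01 := congrFun (congrFun e 0) 1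
  have a11 := congrFun (congrFun e 1) 1
  simp [coe_slU, Matrix.mul_apply, Fin.sum_univ_two] at a00 a01 a11
  have h10 : p.1 1 0 = 0 := by linear_combination a11
  have hd := p.det_coe
  rw [Matrix.det_fin_two, h10, mul_zero, sub_zero] at hd
  refine ⟨h10, ?_⟩
  have : p.1 0 0 = c * p.1 1 1 := by linear_combination a01
  linear_combination (-p.1 0 0) * this - c * hd

theorem Phi_mem_H {p : SL(2, F) × SL(2, F)} (h : Phi p ∈ (RR F).H) :
    p.2.1 1 0 = 0 ∧ IsSquare (ch (Phi p) ia) := by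
  have e := conj_x model uGoodG2 h ia 1
  rw [← phi_U, ← phi_U, conj_x_Phi] at e
  obtain ⟨h10, hc⟩ := entries_of_normalizes (phi_ia_inj (F := F) e)
  exact ⟨h10, ⟨p.2.1 0 0, by rw [← pow_two, ← hc, mul_one]⟩⟩

theorem mem_LL_iff {h : GG F} (hh : h ∈ (RR F).H) : h ∈ LL F ↔ IsSquare (ch h ia) := by
  constructor
  · rintro ⟨p, rfl⟩; exact (Phi_mem_H hh).2
  · rintro ⟨μ, hμ⟩
    have hμ0 : μ ≠ 0 := fun e => chi_ne_zero model uGoodG2 hh ia (hμ.trans (by rw [e, mul_zero]))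
    have hb := chi_ne_zero model uGoodG2 hh ib
    have hν : μ ^ 3 * ch h ib ≠ 0 := mul_ne_zero (pow_ne_zero _ hμ0) hb
    refine ⟨(ph slU slL (μ ^ 3 * ch h ib), ph slU slL μ), ?_⟩
    rw [Phi_apply, phi_ph, phi_ph]
    have m1 := (RR F).hr_mem_H (r := ir) hν
    have m2 := (RR F).hr_mem_H (r := ia) hμ0
    refine torus_ext (mul_mem m1 m2) hh ?_ ?_
    · rw [ch_mul m1 m2, ch_hr _ _ hν p_ra, ch_hr _ _ hμ0 p_aa, zpow_zero, one_mul, hμ]
      exact zpow_two μ
    · rw [ch_mul m1 m2, ch_hr _ _ hν p_rb, ch_hr _ _ hμ0 p_ab, zpow_one]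
      simp only [_root_.zpow_neg]
      norm_cast
      field_simp

theorem JJ_conj (u : Fˣ) : (JJ F * dconj u (JJ F)⁻¹ : SL(2, F)) = ph slU slL (↑u⁻¹ : F) := by
  refine Subtype.ext ?_
  rw [Matrix.SpecialLinearGroup.coe_mul, coe_dconj, ph_sl (Units.ne_zero _),
    Matrix.SpecialLinearGroup.coe_inv, pn_sl one_ne_zero]
  ext i j
  fin_cases i <;> fin_cases j <;> simp [Matrix.adjugate_fin_two, Matrix.mul_apply, Fin.sum_univ_two]

theorem j0_inverts {h : GG F} (hh : h ∈ (RR F).H) : j0 * h * j0⁻¹ = h⁻¹ := by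
  have h1 := (Units.ne_zero (chU hh ir)⁻¹)
  have h2 := (Units.ne_zero (chU hh ia)⁻¹)
  have e : j0 * h * j0⁻¹ = Phi (ph slU slL (↑(chU hh ir)⁻¹ : F), ph slU slL (↑(chU hh ia)⁻¹ : F)) * h := by
    have := conj_Phi hh ((JJ F, JJ F)⁻¹ : SL(2, F) × SL(2, F))
    rw [Prod.fst_inv, Prod.snd_inv, map_inv] at this
    rw [← JJ_conj, ← JJ_conj, show ((JJ F * dconj (chU hh ir) (JJ F)⁻¹, JJ F * dconj (chU hh ia) (JJ F)⁻¹) :
      SL(2, F) × SL(2, F)) = (JJ F, JJ F) * (dconj (chU hh ir) (JJ F)⁻¹, dconj (chU hh ia) (JJ F)⁻¹) from rfl,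
      map_mul, ← this]
    simp only [j0]
    group
  rw [e, Phi_apply, phi_ph, phi_ph]
  have m1 := (RR F).hr_mem_H (r := ir) h1
  have m2 := (RR F).hr_mem_H (r := ia) h2
  have m3 := mul_mem (mul_mem m1 m2) hh
  have inv : ∀ s, ch h⁻¹ s = (ch h s)⁻¹ := fun s => by
    refine eq_inv_of_mul_eq_one_left ?_
    rw [← ch_mul (inv_mem hh) hh, inv_mul_cancel, ch_one]
  have ha := chi_ne_zero model uGoodG2 hh ia
  have hb := chi_ne_zero model uGoodG2 hh ib
  refine torus_ext m3 (inv_mem hh) ?_ ?_ <;>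
    rw [ch_mul (mul_mem m1 m2) hh, ch_mul m1 m2, inv]
  · rw [ch_hr _ _ h1 p_ra, ch_hr _ _ h2 p_aa]
    simp only [Units.val_inv_eq_inv_val, chU, Units.val_mk0, zpow_zero, one_mul]
    norm_cast
    field_simp
  · rw [ch_hr _ _ h1 p_rb, ch_hr _ _ h2 p_ab]
    simp only [Units.val_inv_eq_inv_val, chU, Units.val_mk0, zpow_one, ch_ir hh, _root_.zpow_neg]
    norm_cast
    field_simp

theorem JJ_sq : JJ F * JJ F = -1 := by
  rw [(pairRel_sl (F := F)).n_sq, neg_one_eq]

theorem j0_sq : (j0 : GG F) * j0 = 1 := by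
  rw [j0, ← map_mul, show ((JJ F, JJ F) * (JJ F, JJ F) : SL(2, F) × SL(2, F)) = (JJ F * JJ F, JJ F * JJ F) from rfl,
    JJ_sq, Phi_neg_one]

theorem j0_not_mem_H : (j0 : GG F) ∉ (RR F).H := fun h => by
  have := (Phi_mem_H (p := (JJ F, JJ F)) h).1
  rw [show ((JJ F, JJ F) : SL(2, F) × SL(2, F)).2 = JJ F from rfl, pn_sl one_ne_zero] at this
  simp at this

/-- Data of the outer element. -/
def IsOuter (ε : Fˣ) (d : GG F) : Prop :=
  ¬ IsSquare (ε : F) ∧ d ∈ (RR F).H ∧ ch d ia = ε ∧ ch d ib = ↑ε⁻¹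

theorem exists_outer (h2 : (2 : F) ≠ 0) : ∃ (ε : Fˣ) (d : GG F), IsOuter ε d := by
  obtain ⟨ν, hν0, hν⟩ := Reflections.exists_nonsquare_scalar (F := F) h2
  obtain ⟨d, hd, ha, hb⟩ := exists_torus (Units.mk0 ν hν0) (Units.mk0 ν hν0)⁻¹
  exact ⟨Units.mk0 ν hν0, d, hν, hd, ha, hb⟩

variable {ε : Fˣ} {d : GG F}

theorem outer_not_mem (ho : IsOuter ε d) : d ∉ LL F := fun h =>
  ho.1 (ho.2.2.1 ▸ (mem_LL_iff ho.2.1).1 h)

theorem outer_ir (ho : IsOuter ε d) : ch d ir = (ε : F) := by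
  rw [ch_ir ho.2.1, ho.2.2.1, ho.2.2.2, Units.val_inv_eq_inv_val]
  field_simp

theorem mem_or_mem (ho : IsOuter ε d) {g : GG F} (hg : g ∈ CC F) : g ∈ LL F ∨ g * d⁻¹ ∈ LL F := by
  obtain ⟨p, h, hh, rfl⟩ := hg
  have hP : Phi p ∈ LL F := ⟨p, rfl⟩
  by_cases hs : IsSquare (ch h ia)
  · exact Or.inl (mul_mem hP ((mem_LL_iff hh).2 hs))
  · refine Or.inr (mul_assoc (Phi p) h d⁻¹ ▸ mul_mem hP ((mem_LL_iff (mul_mem hh (inv_mem ho.2.1))).2 ?_))
    have e : ch (h * d⁻¹) ia * ε = ch h ia := by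
      rw [← ho.2.2.1, ← ch_mul (mul_mem hh (inv_mem ho.2.1)) ho.2.1, inv_mul_cancel_right]
    have hc := chi_ne_zero model uGoodG2 (mul_mem hh (inv_mem ho.2.1)) ia
    rcases Reflections.square_class ho.1 hc with ⟨t, _, ht⟩ | ⟨t, _, ht⟩
    · exact ⟨t, by rw [ch, ht, one_mul, pow_two]⟩
    · exact absurd ⟨ε * t, by rw [← e, ch, ht]; ring⟩ hs

theorem relIndex_LL (ho : IsOuter ε d) : (LL F).relIndex (CC F) = 2 := by
  rw [Subgroup.relIndex, Subgroup.index_eq_two_iff]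
  refine ⟨⟨d⁻¹, inv_mem (H_le_CC ho.2.1)⟩, fun b => ?_⟩
  simp only [Subgroup.mem_subgroupOf, Subgroup.coe_mul]
  rcases mem_or_mem ho b.2 with h | h
  · refine Or.inr ⟨h, fun h' => outer_not_mem ho ?_⟩
    simpa [mul_assoc] using mul_mem (inv_mem h') h
  · refine Or.inl ⟨h, fun h' => outer_not_mem ho ?_⟩
    simpa [mul_assoc] using mul_mem (inv_mem h) h'

theorem card_CC (h2 : (2 : F) ≠ 0) : Nat.card (CC F) = Nat.card SL(2, F) ^ 2 := by
  obtain ⟨ε, d, ho⟩ := exists_outer (F := F) h2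
  rw [← card_LL h2, ← relIndex_LL ho, Subgroup.relIndex,
    ← Nat.card_congr (Subgroup.subgroupOfEquivOfLe (LL_le (F := F))).toEquiv, mul_comm,
    Subgroup.card_mul_index]

/-- An involution of `LL` is the central one or conjugate to `j0`. -/
theorem classes_LL (h2 : (2 : F) ≠ 0) {t : GG F} (ht : t ∈ LL F) (hsq : t * t = 1) (h1 : t ≠ 1)
    (h0 : t ≠ t0) : IsConj j0 t := by
  obtain ⟨⟨p, q⟩, rfl⟩ := ht
  rw [← map_mul] at hsq
  rcases (mem_ker_Phi h2).1 hsq with e | e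
  · exfalso
    have ep := BC85.G2.sl_sq_eq_one h2 (x := p) (congrArg Prod.fst e)
    have eq := BC85.G2.sl_sq_eq_one h2 (x := q) (congrArg Prod.snd e)
    rcases ep with rfl | rfl <;> rcases eq with rfl | rfl
    · exact h1 (map_one _)
    · exact h0 (by rw [Phi_apply, map_one, one_mul, phi_ia_neg_one])
    · exact h0 (by rw [Phi_apply, map_one, mul_one, phi_ir_neg_one])
    · exact h1 Phi_neg_one
  · have key : ∀ g : SL(2, F), g * g = -1 → ∃ P : SL(2, F), P * g = JJ F * P := by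
      intro g hg
      have hm := congrArg (fun g : SL(2, F) => (g : Matrix (Fin 2) (Fin 2) F)) hg
      simp only [Matrix.SpecialLinearGroup.coe_mul, Matrix.SpecialLinearGroup.coe_neg,
        Matrix.SpecialLinearGroup.coe_one] at hm
      have a00 := congrFun (congrFun hm 0) 0
      have a01 := congrFun (congrFun hm 0) 1
      have a10 := congrFun (congrFun hm 1) 0
      have a11 := congrFun (congrFun hm 1) 1
      simp [Matrix.mul_apply, Fin.sum_univ_two] at a00 a01 a10 a11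
      have hd := g.det_coe
      rw [Matrix.det_fin_two] at hd
      have tr0 : g.1 0 0 + g.1 1 1 = 0 := by
        have x1 : g.1 0 0 * (g.1 0 0 + g.1 1 1) = 0 := by linear_combination a00 + hd
        have x2 : g.1 1 0 * (g.1 0 0 + g.1 1 1) = 0 := by linear_combination a10
        rcases mul_eq_zero.1 x1 with h | h
        · rcases mul_eq_zero.1 x2 with h' | h'
          · exfalso; rw [h, h'] at hd; simp at hd
          · exact h'
        · exact h
      obtain ⟨P, hP⟩ := exists_companion h2 (M := (g : Matrix (Fin 2) (Fin 2) F)) (δ := 1)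
        (by linear_combination tr0) g.det_coe one_ne_zero
      refine ⟨P, Subtype.ext ?_⟩
      rw [Matrix.SpecialLinearGroup.coe_mul, Matrix.SpecialLinearGroup.coe_mul, hP, pn_sl one_ne_zero,
        inv_one]
    obtain ⟨P, hP⟩ := key p (congrArg Prod.fst e)
    obtain ⟨R, hR⟩ := key q (congrArg Prod.snd e)
    refine (isConj_iff.2 ⟨Phi (P, R), ?_⟩).symm
    rw [j0, ← map_mul, ← map_inv, ← map_mul]
    refine congrArg Phi ?_
    rw [mul_inv_eq_iff_eq_mul]
    exact Prod.ext hP hR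

/-- An outer involution is conjugate to `j0 d`. -/
theorem classes_outer (h2 : (2 : F) ≠ 0) (ho : IsOuter ε d) {t : GG F} (ht : t * d⁻¹ ∈ LL F)
    (hsq : t * t = 1) : IsConj (j0 * d) t := by
  obtain ⟨⟨p, q⟩, hpq⟩ := ht
  have ht' : t = Phi (p, q) * d := by rw [hpq, inv_mul_cancel_right]
  subst ht'
  have hε : (ε : F) ≠ 0 := ε.ne_zero
  have m1 := (RR F).hr_mem_H (r := ir) hε
  have m2 := (RR F).hr_mem_H (r := ia) hε
  have hd2 : d * d = Phi (ph slU slL (ε : F), ph slU slL (ε : F)) := by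
    rw [Phi_apply, phi_ph, phi_ph]
    refine torus_ext (mul_mem ho.2.1 ho.2.1) (mul_mem m1 m2) ?_ ?_ <;>
      rw [ch_mul ho.2.1 ho.2.1, ch_mul m1 m2]
    · rw [ch_hr _ _ hε p_ra, ch_hr _ _ hε p_aa, ho.2.2.1, zpow_zero, one_mul]
      exact (zpow_two _).symm
    · rw [ch_hr _ _ hε p_rb, ch_hr _ _ hε p_ab, ho.2.2.2, zpow_one, Units.val_inv_eq_inv_val]
      simp only [_root_.zpow_neg]
      norm_cast
      group
  have hc := conj_Phi ho.2.1 (p, q)
  have hur : chU ho.2.1 ir = ε := Units.ext (outer_ir ho)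
  have hua : chU ho.2.1 ia = ε := Units.ext ho.2.2.1
  rw [hur, hua] at hc
  have hsq' : Phi ((p, q) * (dconj ε p, dconj ε q) *
      (ph slU slL (ε : F), ph slU slL (ε : F))) = 1 := by
    rw [map_mul, map_mul, ← hc, ← hd2, ← hsq]
    group
  have key : ∀ (g : SL(2, F)), g * dconj ε g * ph slU slL (ε : F) = 1 ∨
      g * dconj ε g * ph slU slL (ε : F) = -1 → ∃ P : SL(2, F), P * g = JJ F * dconj ε P := by
    intro g hg
    set D : Matrix (Fin 2) (Fin 2) F := !![(ε : F), 0; 0, 1]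
    set M : Matrix (Fin 2) (Fin 2) F := (g : Matrix (Fin 2) (Fin 2) F) * D with hM
    have hD : ∀ A : SL(2, F), D * (A : Matrix (Fin 2) (Fin 2) F) =
        (dconj ε A : Matrix (Fin 2) (Fin 2) F) * D := fun A => by
      rw [coe_dconj]
      ext i j
      fin_cases i <;> fin_cases j <;> simp [D, Matrix.mul_apply, Fin.sum_univ_two] <;> field_simp
    have hMdet : M.det = ε := by simp [M, D, Matrix.det_mul, g.det_coe, Matrix.det_fin_two]
    obtain ⟨c, hc', hMM⟩ : ∃ c : F, (c = ε ∨ c = -ε) ∧ M * M = c • (1 : Matrix (Fin 2) (Fin 2) F) := by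
      have hMM : M * M = (ε : F) • ((g * dconj ε g * ph slU slL (ε : F) : SL(2, F)) : Matrix (Fin 2) (Fin 2) F) := by
        have hDD : D * D = (ε : F) • ((ph slU slL (ε : F) : SL(2, F)) : Matrix (Fin 2) (Fin 2) F) := by
          rw [ph_sl hε]
          ext i j
          fin_cases i <;> fin_cases j <;> simp [D, Matrix.mul_apply, Fin.sum_univ_two, hε]
        rw [hM, Matrix.SpecialLinearGroup.coe_mul, Matrix.SpecialLinearGroup.coe_mul, ← Matrix.mul_smul,
          ← hDD, show (g : Matrix (Fin 2) (Fin 2) F) * D * ((g : Matrix (Fin 2) (Fin 2) F) * D) =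
            (g : Matrix (Fin 2) (Fin 2) F) * (D * (g : Matrix (Fin 2) (Fin 2) F)) * D by
            simp [Matrix.mul_assoc], hD]
        simp [Matrix.mul_assoc]
      rcases hg with h | h <;> rw [h] at hMM
      · exact ⟨ε, Or.inl rfl, by simpa using hMM⟩
      · exact ⟨-ε, Or.inr rfl, by simpa [Matrix.SpecialLinearGroup.coe_neg] using hMM⟩
    have a00 := congrFun (congrFun hMM 0) 0
    have a01 := congrFun (congrFun hMM 0) 1
    have a10 := congrFun (congrFun hMM 1) 0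
    have a11 := congrFun (congrFun hMM 1) 1
    simp [Matrix.mul_apply, Fin.sum_univ_two] at a00 a01 a10 a11
    have hd := hMdet
    rw [Matrix.det_fin_two] at hd
    have tr0 : M 1 1 = -M 0 0 := by
      by_contra hne
      have hne' : M 0 0 + M 1 1 ≠ 0 := fun e => hne (by linear_combination e)
      have z1 : M 0 1 = 0 := (mul_eq_zero.1 (show M 0 1 * (M 0 0 + M 1 1) = 0 by
        linear_combination a01)).resolve_right hne'
      have z2 : M 0 0 = M 1 1 := by
        have : (M 0 0 - M 1 1) * (M 0 0 + M 1 1) = 0 := by linear_combination a00 - a11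
        exact sub_eq_zero.1 ((mul_eq_zero.1 this).resolve_right hne')
      exact ho.1 ⟨M 0 0, by rw [← hd, z1, ← z2]; ring⟩
    obtain ⟨P, hP⟩ := exists_companion h2 tr0 hMdet hε
    refine ⟨P, Subtype.ext ?_⟩
    have hDinv : D * !![(ε : F)⁻¹, 0; 0, 1] = 1 := by
      ext i j; fin_cases i <;> fin_cases j <;> simp [D, Matrix.mul_apply, Fin.sum_univ_two, hε]
    have e1 : ((P * g : SL(2, F)) : Matrix (Fin 2) (Fin 2) F) * D =
        ((JJ F * dconj ε P : SL(2, F)) : Matrix (Fin 2) (Fin 2) F) * D := by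
      rw [Matrix.SpecialLinearGroup.coe_mul, Matrix.SpecialLinearGroup.coe_mul, Matrix.mul_assoc, ← hM, hP,
        Matrix.mul_assoc, ← hD, ← Matrix.mul_assoc]
      congr 1
      rw [pn_sl one_ne_zero]
      ext i j
      fin_cases i <;> fin_cases j <;> simp [D, Matrix.mul_apply, Fin.sum_univ_two]
    have := congrArg (· * !![(ε : F)⁻¹, 0; 0, 1]) e1
    simpa only [Matrix.mul_assoc, hDinv, Matrix.mul_one] using this
  have hpm := (mem_ker_Phi h2).1 hsq'
  obtain ⟨P, hP⟩ := key p (hpm.imp (congrArg Prod.fst) (congrArg Prod.fst))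
  obtain ⟨R, hR⟩ := key q (hpm.imp (congrArg Prod.snd) (congrArg Prod.snd))
  refine (isConj_iff.2 ⟨Phi (P, R), ?_⟩).symm
  have hc' := conj_Phi ho.2.1 (P, R)⁻¹
  rw [hur, hua, map_inv, Prod.fst_inv, Prod.snd_inv, map_inv, map_inv] at hc'
  rw [show Phi (P, R) * (Phi (p, q) * d) * (Phi (P, R))⁻¹ =
    Phi (P, R) * Phi (p, q) * (d * (Phi (P, R))⁻¹ * d⁻¹) * d by group, hc', ← map_mul, ← map_mul, j0]
  congr 2
  exact Prod.ext ((congrArg (· * (dconj ε P)⁻¹) hP).trans (mul_inv_cancel_right _ _))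
    ((congrArg (· * (dconj ε R)⁻¹) hR).trans (mul_inv_cancel_right _ _))

/-- Involutions centralising the central one. -/
theorem classes_CC (h2 : (2 : F) ≠ 0) (ho : IsOuter ε d) {t : GG F} (ht : t ∈ CC F) (hsq : t * t = 1)
    (h1 : t ≠ 1) (h0 : t ≠ t0) : (t ∈ LL F ∧ IsConj j0 t) ∨ (t ∉ LL F ∧ IsConj (j0 * d) t) := by
  by_cases hL : t ∈ LL F
  · exact Or.inl ⟨hL, classes_LL h2 hL hsq h1 h0⟩
  · exact Or.inr ⟨hL, classes_outer h2 ho ((mem_or_mem ho ht).resolve_left hL) hsq⟩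

theorem t0_ne_one (h2 : (2 : F) ≠ 0) : (t0 : GG F) ≠ 1 := fun e => by
  rw [← phi_ir_neg_one, ← map_one (phi (F := F) ir)] at e
  exact one_ne_neg_one h2 (phi_ir_inj (F := F) e).symm

theorem t0_sq : (t0 : GG F) * t0 = 1 := by
  rw [← phi_ir_neg_one, ← map_mul, neg_mul_neg, one_mul, map_one]

theorem j0_conj (h2 : (2 : F) ≠ 0) (ho : IsOuter ε d) : IsConj (j0 : GG F) (j0 * d) ∧ IsConj (t0 : GG F) j0 := by
  obtain ⟨z, hz, hza, hzb⟩ := exists_torus (1 : Fˣ) ε
  set n := (RR F).n ⟨1, by decide⟩ with hn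
  have hnw : (RR F).nw [⟨1, by decide⟩] = n := by simp [RootRel.nw, hn]
  -- an involution of the torus
  have ht1 : n⁻¹ * t0 * n ∈ (RR F).H := (RR F).n_inv_conj_mem_H _ t0_mem_H
  have ht1sq : n⁻¹ * t0 * n * (n⁻¹ * t0 * n) = 1 := by
    rw [show n⁻¹ * t0 * n * (n⁻¹ * t0 * n) = n⁻¹ * (t0 * t0) * n by group, t0_sq]; group
  have hzL : z ∈ LL F := (mem_LL_iff hz).2 (by rw [hza]; exact ⟨1, by simp⟩)
  have hj : (j0 : GG F) ∈ LL F := ⟨_, rfl⟩
  have hH : ∀ k ∈ (RR F).H, (j0 * k) * (j0 * k) = (1 : GG F) := fun k hk => by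
    rw [show j0 * k * (j0 * k) = j0 * k * j0⁻¹ * (j0 * j0) * k by group, j0_inverts hk, j0_sq]; group
  have hy : ∀ k ∈ (RR F).H, n * (j0 * k) * n⁻¹ ∈ CC F ∧ n * (j0 * k) * n⁻¹ * (n * (j0 * k) * n⁻¹) = 1 ∧
      n * (j0 * k) * n⁻¹ ≠ 1 ∧ n * (j0 * k) * n⁻¹ ≠ t0 := by
    intro k hk
    have hne : ∀ m ∈ (RR F).H, j0 * k ≠ m := fun m hm e => j0_not_mem_H (F := F) (by
      rw [eq_mul_inv_of_mul_eq e]; exact mul_mem hm (inv_mem hk))
    refine ⟨?_, ?_, fun e => hne 1 (one_mem _) ?_, fun e => hne _ ht1 ?_⟩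
    · rw [← centralizer_eq h2, Subgroup.mem_centralizer_singleton_iff]
      have hc : Commute (j0 * k) (n⁻¹ * t0 * n) := by
        refine Commute.mul_left ?_ (H_commute model uGoodG2 hk ht1)
        have := j0_inverts ht1
        rw [inv_eq_of_mul_eq_one_right ht1sq, mul_inv_eq_iff_eq_mul] at this
        exact this
      calc n * (j0 * k) * n⁻¹ * t0 = n * (j0 * k * (n⁻¹ * t0 * n)) * n⁻¹ := by group
        _ = n * (n⁻¹ * t0 * n * (j0 * k)) * n⁻¹ := by rw [hc.eq]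
        _ = _ := by group
    · rw [show n * (j0 * k) * n⁻¹ * (n * (j0 * k) * n⁻¹) = n * (j0 * k * (j0 * k)) * n⁻¹ by group, hH k hk]
      group
    · rwa [conj_eq_one_iff] at e
    · rw [← e]; group
  obtain ⟨a1, a2, a3, a4⟩ := hy 1 (one_mem _)
  obtain ⟨b1, b2, b3, b4⟩ := hy z hz
  rw [mul_one] at a1 a2 a3 a4
  have c1 : IsConj (j0 : GG F) (n * j0 * n⁻¹) := isConj_iff.2 ⟨n, rfl⟩
  have c2 : IsConj (j0 : GG F) (n * (j0 * z) * n⁻¹) := by
    refine (classes_LL h2 (mul_mem hj hzL) (hH z hz) (fun e => j0_not_mem_H (F := F) ?_)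
      (fun e => j0_not_mem_H (F := F) ?_)).trans (isConj_iff.2 ⟨n, rfl⟩)
    · rw [eq_inv_of_mul_eq_one_left e]; exact inv_mem hz
    · rw [eq_mul_inv_of_mul_eq e]; exact mul_mem t0_mem_H (inv_mem hz)
  suffices hfirst : IsConj (j0 : GG F) (j0 * d) by
    refine ⟨hfirst, ?_⟩
    have hH1 : n * t0 * n⁻¹ ∈ (RR F).H := (RR F).n_conj_mem_H _ t0_mem_H
    have hne : n * t0 * n⁻¹ ≠ t0 := fun e => by
      have h8 := chi_conj model uGoodG2 [⟨1, by decide⟩] (t0_mem_H (F := F)) ⟨8, by decide⟩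
      rw [hnw, show model.S.actw [⟨1, by decide⟩] (⟨8, by decide⟩ : Fin model.tab.n) = ia by decide +kernel, e] at h8
      change ch t0 ia = ch t0 _ at h8
      rw [ch_t0, ch_t0, p_ra, show chevG2.pairing (ir : Fin model.tab.n).val 8 = 1 by decide +kernel,
        zpow_zero, zpow_one] at h8
      exact h2 (by linear_combination h8)
    refine (isConj_iff.2 ⟨n, rfl⟩ : IsConj (t0 : GG F) (n * t0 * n⁻¹)).trans ?_
    rcases classes_CC h2 ho (H_le_CC hH1) (by
      rw [show n * t0 * n⁻¹ * (n * t0 * n⁻¹) = n * (t0 * t0) * n⁻¹ by group, t0_sq]; group)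
      (fun e => t0_ne_one h2 (conj_eq_one_iff.1 e)) hne with ⟨-, e⟩ | ⟨hnot, e⟩
    · exact e.symm
    · exact (hfirst.trans e).symm
  · rcases classes_CC h2 ho a1 a2 a3 a4 with ⟨e, -⟩ | ⟨-, e⟩
    swap
    · exact c1.trans e.symm
    rcases classes_CC h2 ho b1 b2 b3 b4 with ⟨e', -⟩ | ⟨hnot, e'⟩
    swap
    · exact c2.trans e'.symm
    exfalso
    -- both would be in `LL`
    have hw : n * z * n⁻¹ ∉ LL F := by
      have hwH : n * z * n⁻¹ ∈ (RR F).H := (RR F).n_conj_mem_H _ hz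
      rw [mem_LL_iff hwH]
      have h8 := chi_conj model uGoodG2 [⟨1, by decide⟩] hz ⟨8, by decide⟩
      rw [hnw, show model.S.actw [⟨1, by decide⟩] (⟨8, by decide⟩ : Fin model.tab.n) = ia by decide +kernel] at h8
      rw [ch, h8, chi_cf model uGoodG2 ⟨z, hz⟩,
        show (Finset.univ : Finset (Fin model.tab.l)) = {⟨0, by decide⟩, ⟨1, by decide⟩} by decide,
        Finset.prod_insert (by decide), Finset.prod_singleton, Units.val_mul, Units.val_zpow_eq_zpow_val,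
        Units.val_zpow_eq_zpow_val, val_psi, val_psi, simple0, simple1,
        show cf model ⟨8, by decide⟩ ⟨0, by decide⟩ = 1 by decide +kernel,
        show cf model ⟨8, by decide⟩ ⟨1, by decide⟩ = 1 by decide +kernel, zpow_one, zpow_one,
        show chi model z ia = _ from hza, show chi model z ib = _ from hzb, Units.val_one, one_mul]
      exact ho.1
    refine hw ?_
    have := mul_mem (inv_mem e) e'
    rwa [show (n * j0 * n⁻¹)⁻¹ * (n * (j0 * z) * n⁻¹) = n * z * n⁻¹ by group] at this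

end Cfsg.Agent.CG26.G2Inv
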