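import Cfsg.Agent.ChevTori.Group
import Cfsg.Agent.ChevFixed.G2
import Cfsg.Agent.Lib.ChevCore.RankOneHom
import Cfsg.Agent.Lib.ChevCore.CommGroup
import Mathlib.GroupTheory.NoncommCoprod

/-!
The subgroup `(SL₂ ∘ SL₂) H` of the Chevalley group of type G2 attached to the highest root and the
short fundamental root orthogonal to it.
-/

set_option autoImplicit false
set_option linter.unusedSectionVars false

namespace Cfsg.Agent.CG26.G2Inv

open Cfsg.Lie Cfsg.Agent.ChevGroup Cfsg.Agent.ChevCore Cfsg.Agent.ChevTori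
open Cfsg.Agent.ChevGroup.TypeG2 (model wit_ok longest_ok pos_span)
open scoped MatrixGroups

/-- The group. -/
abbrev GG (F : Type*) [Field F] : Type _ := ↥(chevG2.group F)

variable {F : Type*} [Field F]

/-- The root relations. -/
noncomputable abbrev RR (F : Type*) [Field F] : RootRel (GG F) F model.S := rr model uGoodG2

/-- The highest root. -/
def ir : Fin model.tab.n := ⟨11, by decide⟩
/-- The short fundamental root. -/
def ia : Fin model.tab.n := ⟨7, by decide⟩
/-- The long fundamental root. -/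
def ib : Fin model.tab.n := ⟨6, by decide⟩

theorem val_neg (r : Fin model.tab.n) : (model.S.neg r).val = chevG2.neg r.val := model.neg_eq r

theorem pairRel (r : Fin model.tab.n) :
    PairRel ((RR F).x r) ((RR F).x (model.S.neg r)) := by
  have hP := uGoodG2.toCommGood.toGood.pairRel_root (F := F) (model.lt r)
  have hn : ∀ c, (((pn ((RR F).x r) ((RR F).x (model.S.neg r)) c : GG F)) : GL chevG2.Idx F) =
      pn (fun t : F => xg chevG2 F r.val t) (fun t : F => xg chevG2 F (chevG2.neg r.val) t) c := by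
    intro c
    simp [pn, val_x, val_neg]
  refine ⟨fun a b => (RR F).x_add r a b, fun a b => (RR F).x_add _ a b, fun a b ha hb => ?_,
    fun a t ha => ?_, fun a t ha => ?_, fun t => ?_⟩ <;> apply Subtype.ext
  · simpa [ph, hn] using hP.h_mul a b ha hb
  · simpa [ph, hn, val_x] using hP.h_x a t ha
  · simpa [ph, hn, val_x, val_neg] using hP.h_y a t ha
  · simpa [hn, val_x, val_neg] using hP.n_x t

/-- The homomorphism from `SL₂` attached to a root. -/
noncomputable def phi (r : Fin model.tab.n) : SL(2, F) →* GG F :=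
  Classical.choose (exists_sl_hom (pairRel (F := F) r))

theorem phi_U (r : Fin model.tab.n) (t : F) : phi r (slU t) = (RR F).x r t :=
  (Classical.choose_spec (exists_sl_hom (pairRel (F := F) r))).1 t

theorem phi_L (r : Fin model.tab.n) (t : F) : phi r (slL t) = (RR F).x (model.S.neg r) t :=
  (Classical.choose_spec (exists_sl_hom (pairRel (F := F) r))).2.1 t

theorem phi_pn (r : Fin model.tab.n) (c : F) : phi r (pn slU slL c) = (RR F).nr r c := by
  simp only [pn, map_mul, phi_U, phi_L]
  rfl

theorem phi_ph (r : Fin model.tab.n) (c : F) : phi r (ph slU slL c) = (RR F).hr r c := by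
  simp only [ph, map_mul, phi_pn]
  rfl

theorem hom_ext_sl {G : Type*} [Monoid G] {f g : SL(2, F) →* G} (hU : ∀ t, f (slU t) = g (slU t))
    (hL : ∀ t, f (slL t) = g (slL t)) (p : SL(2, F)) : f p = g p :=
  MonoidHom.eqOn_closure (s := Set.range (slU (F := F)) ∪ Set.range slL)
    (by rintro _ (⟨t, rfl⟩ | ⟨t, rfl⟩); exacts [hU t, hL t]) (sl_generated p)

theorem pos_ir : model.S.pos ir := by decide
theorem pos_ia : model.S.pos ia := by decide

theorem x_mem_U_zero {r : Fin model.tab.n} {t : F} (h : (RR F).x r t = 1) : t = 0 := model.x_ne _ r t h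

theorem nr_not_mem_B {r : Fin model.tab.n} (hr : model.S.pos r) : (RR F).nr r 1 ∉ (RR F).B := by
  intro h
  have hx : (RR F).x (model.S.neg r) (-1) ∈ (RR F).B := by
    rw [← (pairRel (F := F) r).n_x 1]
    exact mul_mem (mul_mem h ((RR F).x_mem_B hr _)) (inv_mem h)
  have h1 := (model.shapeR (relsOfCommGood uGoodG2.toCommGood F)).tri_of_B hx
  have h2 := (model.shapeR (relsOfCommGood uGoodG2.toCommGood F)).uni_neg r (-1) hr
  have h3 : (RR F).x (model.S.neg r) (-1) = 1 := by
    refine (model.shapeR (relsOfCommGood uGoodG2.toCommGood F)).eq_one ?_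
    ext a b
    rcases eq_or_ne a b with rfl | hab
    · exact (h2 a a le_rfl).trans (by simp)
    · rcases le_total ((model.shapeR (relsOfCommGood uGoodG2.toCommGood F)).key a)
        ((model.shapeR (relsOfCommGood uGoodG2.toCommGood F)).key b) with hk | hk
      · exact (h1.1 a b hab hk).trans (Matrix.one_apply_ne hab).symm
      · exact (h2 a b (neg_le_neg hk)).trans (by simp [hab])
  exact one_ne_zero (neg_eq_zero.1 (x_mem_U_zero h3))

/-- The character of a diagonal element. -/
noncomputable abbrev ch (h : GG F) (s : Fin model.tab.n) : F := chi model h s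

theorem hr_conj_x (r s : Fin model.tab.n) {c : F} (hc : c ≠ 0) :
    ch ((RR F).hr r c) s = c ^ chevG2.pairing r.val s.val := by
  have h1 := conj_x model uGoodG2 ((RR F).hr_mem_H (r := r) hc) s 1
  have h2 : (RR F).hr r c * (RR F).x s 1 * ((RR F).hr r c)⁻¹ =
      (RR F).x s (c ^ chevG2.pairing r.val s.val * 1) := by
    apply Subtype.ext
    have e : (((RR F).hr r c : GG F) : GL chevG2.Idx F) = hg chevG2 F r.val c := by
      show ((hOf model.S.neg (RR F).x r c : GG F) : GL chevG2.Idx F) = _
      simp [hOf, nOf, hg, ng, val_x, val_neg]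
    rw [Subgroup.coe_mul, Subgroup.coe_mul, Subgroup.coe_inv, e, val_x, val_x,
      uGoodG2.toCommGood.toGood.hg_conj_x (model.lt r) (model.lt s) hc]
  rw [h1, mul_one, mul_one] at h2
  exact x_inj model uGoodG2 s h2

theorem phi_injective {r : Fin model.tab.n} (hr : model.S.pos r)
    (hp : ∃ s, chevG2.pairing r.val (s : Fin model.tab.n).val = 1) :
    Function.Injective (phi (F := F) r) := by
  rw [injective_iff_map_eq_one]
  intro g hg
  rcases (pairRel_sl (F := F)).bruhat_of_mem (sl_generated g) with ⟨a, b, ha, rfl⟩ | ⟨a, b, e, ha, rfl⟩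
  · rw [map_mul, phi_ph, phi_U] at hg
    have h1 : (RR F).x r b = 1 := (model.shapeR (relsOfCommGood uGoodG2.toCommGood F)).U_inter_H
      ((RR F).x_mem_U hr b) (by
        rw [show (RR F).x r b = ((RR F).hr r a)⁻¹ from eq_inv_of_mul_eq_one_right hg]
        exact inv_mem ((RR F).hr_mem_H ha))
    have hb := x_mem_U_zero h1
    rw [h1, mul_one] at hg
    obtain ⟨s, hs⟩ := hp
    have := hr_conj_x r s ha
    rw [hg, hs, zpow_one] at this
    have ha1 : a = 1 := by
      rw [← this, ch, chi]
      simp [Model.mat]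
    rw [hb, ha1, (pairRel_sl (F := F)).h_one, (pairRel_sl (F := F)).x_zero, one_mul]
  · exfalso
    rw [map_mul, map_mul, map_mul, phi_ph, phi_U, phi_pn, phi_U] at hg
    have hB := mul_mem ((RR F).H_le_B ((RR F).hr_mem_H (r := r) ha)) ((RR F).x_mem_B hr b)
    have : (RR F).nr r 1 = ((RR F).hr r a * (RR F).x r b)⁻¹ * ((RR F).x r e)⁻¹ := by
      rw [mul_assoc _ ((RR F).nr r 1)] at hg
      rw [eq_mul_inv_iff_mul_eq]
      exact eq_inv_of_mul_eq_one_right hg
    exact nr_not_mem_B (F := F) hr (this ▸ mul_mem (inv_mem hB) (inv_mem ((RR F).x_mem_B hr e)))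

theorem phi_ir_inj : Function.Injective (phi (F := F) ir) :=
  phi_injective pos_ir ⟨ib, by decide +kernel⟩

theorem phi_ia_inj : Function.Injective (phi (F := F) ia) :=
  phi_injective pos_ia ⟨⟨3, by decide⟩, by decide +kernel⟩

theorem x_comm {r s : Fin model.tab.n} (h1 : s.val ≠ r.val) (h2 : s.val ≠ chevG2.neg r.val)
    (h3 : chevG2.commTerms r.val s.val = []) (t u : F) :
    (RR F).x s u * (RR F).x r t = (RR F).x r t * (RR F).x s u := by
  apply Subtype.ext
  have h := commGoodG2.xg_comm (model.lt r) (model.lt s) h1 h2 t u (F := F)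
  simp only [Subgroup.coe_mul, val_x]
  rw [h, show chevG2.commWord F r.val s.val t u = [] from ?_]
  · simp [wordG]
  · simp [ChevalleyDatum.commWord, h3]

theorem comm_gen {r s : Fin model.tab.n}
    (h : ∀ r' ∈ [r, model.S.neg r], ∀ s' ∈ [s, model.S.neg s],
      s'.val ≠ r'.val ∧ s'.val ≠ chevG2.neg r'.val ∧ chevG2.commTerms r'.val s'.val = [])
    (p q : SL(2, F)) : Commute (phi r p) (phi s q) := by
  have step : ∀ r' ∈ [r, model.S.neg r], ∀ (t : F), Commute ((RR F).x r' t) (phi s q) := by
    intro r' hr' t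
    have := hom_ext_sl (f := (MulAut.conj ((RR F).x r' t)).toMonoidHom.comp (phi s)) (g := phi s)
      (fun u => ?_) (fun u => ?_) q
    · exact mul_inv_eq_iff_eq_mul.1 this
    · obtain ⟨a, b, c⟩ := h r' hr' s (by simp)
      simp [phi_U, ← x_comm a b c t u]
    · obtain ⟨a, b, c⟩ := h r' hr' (model.S.neg s) (by simp)
      simp [phi_L, ← x_comm a b c t u]
  have := hom_ext_sl (f := (MulAut.conj (phi s q)).toMonoidHom.comp (phi r)) (g := phi r)
    (fun u => ?_) (fun u => ?_) p
  · exact (mul_inv_eq_iff_eq_mul.1 this).symm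
  · simp [phi_U, ← (step r (by simp) u).eq]
  · simp [phi_L, ← (step (model.S.neg r) (by simp) u).eq]

theorem phi_comm (p q : SL(2, F)) : Commute (phi ir p) (phi ia q) :=
  comm_gen (by decide +kernel) p q

/-- The product of the two copies of `SL₂`. -/
noncomputable def Phi : SL(2, F) × SL(2, F) →* GG F :=
  MonoidHom.noncommCoprod (phi ir) (phi ia) phi_comm

theorem Phi_apply (p : SL(2, F) × SL(2, F)) : Phi p = phi ir p.1 * phi ia p.2 := rfl

/-- Conjugation by `diag(u, 1)`. -/
def dconj (u : Fˣ) : SL(2, F) →* SL(2, F) :=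
  MonoidHom.mk' (fun g => ⟨!![g 0 0, u * g 0 1; (↑u⁻¹ : F) * g 1 0, g 1 1], by
    have h := g.2
    rw [Matrix.det_fin_two] at h
    rw [Matrix.det_fin_two_of]
    linear_combination h - g.1 0 1 * g.1 1 0 * u.mul_inv⟩)
    fun g k => Subtype.ext (by
      show _ = (_ : Matrix (Fin 2) (Fin 2) F) * _
      ext i j
      fin_cases i <;> fin_cases j <;> simp [Matrix.mul_apply, Fin.sum_univ_two] <;>
        field_simp [u.ne_zero] <;> ring)

theorem coe_dconj (u : Fˣ) (g : SL(2, F)) : (dconj u g : Matrix (Fin 2) (Fin 2) F) =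
    !![g 0 0, u * g 0 1; (↑u⁻¹ : F) * g 1 0, g 1 1] := rfl

theorem ch_neg {h : GG F} (hh : h ∈ (RR F).H) (s : Fin model.tab.n) :
    ch h (model.S.neg s) = (ch h s)⁻¹ := by
  rw [ch, chi_cf model uGoodG2 ⟨h, hh⟩, ch, chi_cf model uGoodG2 ⟨h, hh⟩, ← Units.val_inv_eq_inv_val,
    ← Finset.prod_inv_distrib]
  exact congrArg Units.val (Finset.prod_congr rfl fun j _ => by rw [cf_neg (T := model) uGoodG2.toCommGood.toGood, zpow_neg])

/-- The character as a unit. -/
noncomputable def chU {h : GG F} (hh : h ∈ (RR F).H) (s : Fin model.tab.n) : Fˣ :=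
  Units.mk0 (ch h s) (chi_ne_zero model uGoodG2 hh s)

theorem conj_phi {h : GG F} (hh : h ∈ (RR F).H) (r : Fin model.tab.n) (p : SL(2, F)) :
    h * phi r p * h⁻¹ = phi r (dconj (chU hh r) p) := by
  refine hom_ext_sl (f := (MulAut.conj h).toMonoidHom.comp (phi r))
    (g := (phi r).comp (dconj (chU hh r))) (fun u => ?_) (fun u => ?_) p
  · show h * phi r (slU u) * h⁻¹ = phi r (dconj (chU hh r) (slU u))
    rw [phi_U, conj_x model uGoodG2 hh, show dconj (chU hh r) (slU u) = slU (ch h r * u) from ?_, phi_U]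
    exact Subtype.ext (by rw [coe_dconj]; ext i j; fin_cases i <;> fin_cases j <;> simp [slU, chU])
  · show h * phi r (slL u) * h⁻¹ = phi r (dconj (chU hh r) (slL u))
    rw [phi_L, conj_x model uGoodG2 hh, show dconj (chU hh r) (slL u) = slL ((ch h r)⁻¹ * u) from ?_, phi_L,
      show chi model h (model.S.neg r) = (ch h r)⁻¹ from ch_neg hh r]
    exact Subtype.ext (by rw [coe_dconj]; ext i j; fin_cases i <;> fin_cases j <;> simp [slL, chU])

theorem conj_Phi {h : GG F} (hh : h ∈ (RR F).H) (p : SL(2, F) × SL(2, F)) :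
    h * Phi p * h⁻¹ = Phi (dconj (chU hh ir) p.1, dconj (chU hh ia) p.2) := by
  rw [Phi_apply, Phi_apply, ← conj_phi, ← conj_phi]
  group

end Cfsg.Agent.CG26.G2Inv
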