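import Cfsg.Agent.CG26.G2Inv.Torus
import Cfsg.Agent.ChevTori.Centralizer

/-!
The centraliser of the central involution of `SL₂ ∘ SL₂` in G2.
-/

set_option autoImplicit false
set_option linter.unusedSectionVars false

namespace Cfsg.Agent.CG26.G2Inv

open Cfsg.Lie Cfsg.Agent.ChevGroup Cfsg.Agent.ChevCore Cfsg.Agent.ChevTori Cfsg.Agent.ChevFixed Matrix

universe u

variable {D : ChevalleyDatum} (T : Model D) (hU : UGood D) {F : Type u} [Field F] [Fintype F]

include hU in
/-- An element commuting with diagonal elements is a product of such elements. -/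
theorem exists_decomp {w₀ : List (Fin T.tab.l)} (hlong : T.longestB w₀ = true)
    (hspan : Mat.spanB D (T.posList.map Fin.val) = true)
    {wit : List (List (Fin T.tab.l) × Fin T.tab.l)} (hwit : T.witB wit = true)
    {g : ↥(D.group F)} {S : Set ↥(D.group F)} (hS : ∀ y ∈ S, y ∈ (rr T hU).H)
    (e : ∀ y ∈ S, g * y = y * g) :
    ∃ u₀ ∈ (rr T hU).U, ∃ w, ∃ u ∈ (rr T hU).U, ∃ k ∈ (rr T hU).H,
      g = u₀ * (rr T hU).nw w * (u * k) ∧ (∀ y ∈ S, y * u₀ = u₀ * y) ∧ (∀ y ∈ S, y * u = u * y) ∧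
      ∀ y ∈ S, (rr T hU).nw w * y * ((rr T hU).nw w)⁻¹ = y := by
  classical
  set K := relsOfCommGood hU.toCommGood F
  set R := rr (F := F) T hU
  obtain ⟨b₁, hb₁, w, hw, b₂, hb₂, rfl⟩ := R.exists_bruhat (g := g)
    ((T.group_top K hwit).symm ▸ Subgroup.mem_top g)
  obtain ⟨u₀, hu₀, hc⟩ := exists_fixed_rep (T.shapeR K) (σ := RingHom.id F)
    (τ := MonoidHom.id ↥(D.group F)) (fun r t => rfl)
    (fun r t hr => T.pres_posList K hspan r t hr) w hw (b₁ * R.nw w * b₂)
    (mem_cell.2 ⟨b₁, hb₁, QuotientGroup.eq.2 (by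
      show (b₁ * R.nw w)⁻¹ * (b₁ * R.nw w * b₂) ∈ R.B
      rw [inv_mul_cancel_left]
      exact hb₂)⟩) rfl
  set b := (u₀ * R.nw w)⁻¹ * (b₁ * R.nw w * b₂)
  have hb : b ∈ R.B := QuotientGroup.eq.1 hc.symm
  have hg : b₁ * R.nw w * b₂ = u₀ * R.nw w * b := (mul_inv_cancel_left _ _).symm
  rw [hg] at e ⊢
  have hu₀U := fixU_le_U (RingHom.id F) w hu₀
  have hfix : ∀ y ∈ S, R.nw w * y * (R.nw w)⁻¹ = y := fun y hy =>
    conj_key T hU hlong hspan w (hS y hy) (hS y hy) (R.U_le_B hu₀U) hb (e y hy)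
  have hlow : ∀ u ∈ fixU R (RingHom.id F) w,
      Uni (fun a => -(T.shapeR K).key a) ((T.shapeR K).mat ((R.nw w)⁻¹ * u * R.nw w)) := by
    intro u hu
    induction hu using Subgroup.closure_induction'' with
    | mem g hg =>
      obtain ⟨r, t, -, hr, hr', rfl⟩ := hg
      obtain ⟨c, hc⟩ := R.nw_inv_conj_x w r t
      rw [hc, ← T.S.neg_neg (T.S.actw w.reverse r)]
      exact (T.shapeR K).uni_neg _ _ ((T.S.pos_or_neg _).resolve_left hr')
    | inv_mem g hg =>
      obtain ⟨r, t, -, hr, hr', rfl⟩ := hg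
      obtain ⟨c, hc⟩ := R.nw_inv_conj_x w r (-t)
      rw [← R.x_neg, hc, ← T.S.neg_neg (T.S.actw w.reverse r)]
      exact (T.shapeR K).uni_neg _ _ ((T.S.pos_or_neg _).resolve_left hr')
    | one =>
      simp only [mul_one, inv_mul_cancel]
      rw [(T.shapeR K).mat_one]
      intro a b _
      simp [Matrix.one_apply]
    | mul g h _ _ hg hh =>
      have e : (R.nw w)⁻¹ * (g * h) * R.nw w =
          ((R.nw w)⁻¹ * g * R.nw w) * ((R.nw w)⁻¹ * h * R.nw w) := by group
      rw [e, (T.shapeR K).mat_mul]; exact hg.mul hh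
  have hu₀S : ∀ y ∈ S, y * u₀ = u₀ * y := by
    intro y hy
    have hyH := hS y hy
    have hN : y * u₀ * y⁻¹ ∈ fixU R (RingHom.id F) w := by
      have h1 := R.conj_mem_uOther_of_scales (g := y)
        (fun s => T.S.pos s ∧ ¬ T.S.pos (T.S.actw w.reverse s))
        (fun s _ => let ⟨a, _, h⟩ := R.H_scales hyH s; ⟨a, h⟩)
        (u := u₀) ((show fixU R (RingHom.id F) w ≤ Subgroup.closure
          {z | ∃ r t, (T.S.pos r ∧ ¬ T.S.pos (T.S.actw w.reverse r)) ∧ z = R.x r t} from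
            Subgroup.closure_mono (by rintro z ⟨r, t, -, hr, hr', hz⟩; exact ⟨r, t, ⟨hr, hr'⟩, hz⟩)) hu₀)
      exact (show Subgroup.closure
          {z | ∃ r t, (T.S.pos r ∧ ¬ T.S.pos (T.S.actw w.reverse r)) ∧ z = R.x r t} ≤
            fixU R (RingHom.id F) w from
            Subgroup.closure_mono (by rintro z ⟨r, t, hr, hz⟩; exact ⟨r, t, rfl, hr.1, hr.2, hz⟩)) h1
    have hu'' : u₀⁻¹ * (y * u₀ * y⁻¹) ∈ fixU R (RingHom.id F) w := mul_mem (inv_mem hu₀) hN
    have hyw : y * R.nw w = R.nw w * y := by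
      have := hfix y hy
      calc y * R.nw w = R.nw w * y * (R.nw w)⁻¹ * R.nw w := by rw [this]
        _ = _ := by group
    have heq : (R.nw w)⁻¹ * (u₀⁻¹ * (y * u₀ * y⁻¹)) * R.nw w = b * y * b⁻¹ * y⁻¹ := by
      have h2 : y * u₀ * R.nw w = u₀ * R.nw w * b * y * b⁻¹ := by
        calc y * u₀ * R.nw w = y * (u₀ * R.nw w * b) * b⁻¹ := by group
          _ = _ := by rw [← e y hy]
      calc (R.nw w)⁻¹ * (u₀⁻¹ * (y * u₀ * y⁻¹)) * R.nw w
          = (R.nw w)⁻¹ * u₀⁻¹ * (y * u₀ * R.nw w) * (R.nw w)⁻¹ * (y⁻¹ * R.nw w) := by group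
        _ = (R.nw w)⁻¹ * u₀⁻¹ * (y * u₀ * R.nw w) * (R.nw w)⁻¹ * (R.nw w * y⁻¹) := by
            rw [show y⁻¹ * R.nw w = R.nw w * y⁻¹ by
              rw [inv_mul_eq_iff_eq_mul, ← mul_assoc, hyw]; group]
        _ = _ := by rw [h2]; group
    have hB : b * y * b⁻¹ * y⁻¹ ∈ R.B :=
      mul_mem (mul_mem (mul_mem hb (R.H_le_B hyH)) (inv_mem hb)) (inv_mem (R.H_le_B hyH))
    have h3 := hlow _ hu''
    rw [heq] at h3
    have h4 : b * y * b⁻¹ * y⁻¹ = 1 := by
      refine (T.shapeR K).eq_one ?_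
      have h5 := (T.shapeR K).tri_of_B hB
      ext i j
      rcases eq_or_ne i j with rfl | hij
      · rw [h3 i i le_rfl]; simp
      · rcases le_total ((T.shapeR K).key i) ((T.shapeR K).key j) with hk | hk
        · rw [h5.1 i j hij hk]; simp [hij]
        · rw [h3 i j (neg_le_neg hk)]; simp [hij]
    rw [h4] at heq
    have h6 : u₀⁻¹ * (y * u₀ * y⁻¹) = 1 := by
      have := congrArg (fun g => R.nw w * g * (R.nw w)⁻¹) heq
      simpa [mul_assoc] using this
    exact mul_inv_eq_iff_eq_mul.1 (inv_mul_eq_one.1 h6).symm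
  obtain ⟨u, hu, k, hk, hbk⟩ := R.mem_B_iff.1 hb
  have huS : ∀ y ∈ S, y * u = u * y := by
    intro y hy
    have hky : k * y = y * k := H_commute T hU hk (hS y hy)
    have h1 : b * y = y * b := by
      have h2 := e y hy
      have hyw : y * R.nw w = R.nw w * y := by
        calc y * R.nw w = R.nw w * y * (R.nw w)⁻¹ * R.nw w := by rw [hfix y hy]
          _ = _ := by group
      apply mul_left_cancel (a := u₀ * R.nw w)
      calc u₀ * R.nw w * (b * y) = u₀ * R.nw w * b * y := by group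
        _ = y * (u₀ * R.nw w * b) := h2
        _ = y * u₀ * R.nw w * b := by group
        _ = u₀ * (y * R.nw w) * b := by rw [hu₀S y hy]; group
        _ = _ := by rw [hyw]; group
    rw [← hbk] at h1
    apply mul_right_cancel (b := k)
    calc y * u * k = y * (u * k) := by group
      _ = u * k * y := h1.symm
      _ = u * (k * y) := by group
      _ = _ := by rw [hky]; group
  exact ⟨u₀, hu₀U, w, u, hu, k, hk, by rw [hbk], hu₀S, huS, hfix⟩

open Cfsg.Agent.ChevGroup.TypeG2 (model wit_ok longest_ok pos_span)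

/-- The elements of the Weyl group. -/
def weylWords : List (List (Fin model.tab.l)) :=
  let a : Fin model.tab.l := ⟨0, by decide⟩
  let b : Fin model.tab.l := ⟨1, by decide⟩
  [[], [a], [b], [a, b], [b, a], [a, b, a], [b, a, b], [a, b, a, b], [b, a, b, a], [a, b, a, b, a],
    [b, a, b, a, b], [a, b, a, b, a, b]]

theorem weylWords_closed : ∀ i : Fin model.tab.l, ∀ v ∈ weylWords, ∃ v' ∈ weylWords,
    ∀ r : Fin model.tab.n, model.S.actw (v'.reverse ++ i :: v) r = r := by decide +kernel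

theorem nw_reduce (w : List (Fin model.tab.l)) : ∃ v ∈ weylWords,
    (∀ r, model.S.actw w r = model.S.actw v r) ∧ ∃ h ∈ (RR F).H, (RR F).nw w = (RR F).nw v * h := by
  induction w with
  | nil => exact ⟨[], by decide, fun r => rfl, 1, one_mem _, by simp⟩
  | cons i w ih =>
    obtain ⟨v, hv, hact, h, hh, e⟩ := ih
    obtain ⟨v', hv', hv''⟩ := weylWords_closed i v hv
    have hact' : ∀ r, model.S.actw (v'.reverse ++ i :: w) r = r := fun r => by
      rw [model.S.actw_append, model.S.actw_cons, hact, ← model.S.actw_cons, ← model.S.actw_append]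
      exact hv'' r
    have hH := (model.shapeR (relsOfCommGood uGoodG2.toCommGood F)).nw_mem_H
      (fun r t => model.x_ne _ r t) hact'
    rw [(RR F).nw_append] at hH
    obtain ⟨l, hl, e2⟩ := nw_inv_eq (RR F) v'
    refine ⟨v', hv', fun r => ?_, (((RR F).nw v')⁻¹ * (RR F).nw (i :: w)), ?_, by group⟩
    · have := hact' r
      rw [model.S.actw_append] at this
      conv_rhs => rw [← this]
      rw [model.S.actw_reverse]
    · rw [e2, mul_assoc]
      exact mul_mem hl hH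

theorem weyl_stab : ∀ v ∈ weylWords, (∀ r : Fin model.tab.n,
      (r.val = 0 ∨ r.val = 4 ∨ r.val = 7 ∨ r.val = 11) ↔
        ((model.S.actw v r).val = 0 ∨ (model.S.actw v r).val = 4 ∨ (model.S.actw v r).val = 7 ∨
          (model.S.actw v r).val = 11)) →
    let a : Fin model.tab.l := ⟨0, by decide⟩
    let b : Fin model.tab.l := ⟨1, by decide⟩
    v = [] ∨ v = [a] ∨ v = [b, a, b, a, b] ∨ v = [a, b, a, b, a, b] := by decide +kernel

theorem nw_stab_mem (v : List (Fin model.tab.l))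
    (hv : let a : Fin model.tab.l := ⟨0, by decide⟩
      let b : Fin model.tab.l := ⟨1, by decide⟩
      v = [] ∨ v = [a] ∨ v = [b, a, b, a, b] ∨ v = [a, b, a, b, a, b]) : (RR F).nw v ∈ CC F := by
  set a : Fin model.tab.l := ⟨0, by decide⟩ with ha
  set b : Fin model.tab.l := ⟨1, by decide⟩ with hb
  have hn : ∀ r : Fin model.tab.n, r.val = 7 ∨ r.val = 11 → ∀ c, (RR F).nr r c ∈ CC F := by
    intro r hr c
    refine mul_mem (mul_mem (x_mem_CC ?_ _) (x_mem_CC ?_ _)) (x_mem_CC ?_ _)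
    · omega
    · rw [val_neg]
      rcases hr with h | h <;> rw [h]
      · exact Or.inr (Or.inl (by decide +kernel))
      · exact Or.inl (by decide +kernel)
    · omega
  have hna : (RR F).n a ∈ CC F := hn _ (Or.inl (by decide +kernel)) 1
  have hlong : (RR F).nw [b, a, b, a, b] ∈ CC F := by
    obtain ⟨c, -, hc⟩ := (RR F).nw_conj_nr [b, a] (model.S.simple b) 1
    obtain ⟨l, hl, e2⟩ := nw_inv_eq (RR F) [b, a]
    rw [e2] at hc
    have hw : (RR F).nw [b, a] * (RR F).nr (model.S.simple b) 1 = (RR F).nw [b, a, b] := by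
      simp [RootRel.nw, RootRel.n, mul_assoc]
    have hcomm : ∃ l' ∈ (RR F).H, (RR F).nw [b, a, b] * l = l' * (RR F).nw [b, a, b] :=
      ⟨_, nw_conj_mem_H (RR F) [b, a, b] hl, by group⟩
    obtain ⟨l', hl', el⟩ := hcomm
    rw [← mul_assoc, hw, el, mul_assoc] at hc
    have : (RR F).nw [b, a, b, a, b] = l'⁻¹ * (RR F).nr (model.S.actw [b, a] (model.S.simple b)) (c * 1) := by
      rw [← hc, inv_mul_cancel_left]
      simp [RootRel.nw, mul_assoc]
    rw [this]
    exact mul_mem (inv_mem (H_le_CC hl')) (hn _ (Or.inr (by decide +kernel)) _)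
  rcases hv with rfl | rfl | rfl | rfl
  · simp
  · simpa [RootRel.nw] using hna
  · exact hlong
  · rw [(RR F).nw_cons]; exact mul_mem hna hlong

theorem mem_CC_of_U (h2 : (2 : F) ≠ 0) {u : GG F} (hu : u ∈ (RR F).U) (e : t0 * u = u * t0) :
    u ∈ CC F := by
  have huP : (u : GL chevG2.Idx F) ∈ chevG2.posUnipotent F :=
    model.U_map (relsOfCommGood uGoodG2.toCommGood F) ▸ ⟨u, hu, rfl⟩
  obtain ⟨τ, ⟨hτ0, hτ⟩, huniq⟩ := uGoodG2.exists_coords huP
  obtain ⟨c, hc⟩ := exists_tau model uGoodG2 (t0_mem_H (F := F))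
  let τ' : ℕ → F := fun r =>
    if hr : r < chevG2.nroots then (tauW chevG2 F c (Sum.inr ⟨r, hr⟩) : F) * τ r else τ r
  have h3 : MulAut.conj (tau chevG2 F c) (prodL chevG2 F chevG2.posRoots τ) =
      prodL chevG2 F chevG2.posRoots τ' := by
    rw [prodL, map_list_prod, List.map_map, prodL]
    congr 1
    refine List.map_congr_left fun r hr => ?_
    have hlt : r < chevG2.nroots := (uGoodG2.toCommGood.toGood.mem_posRoots.1 hr).1
    simp only [Function.comp_apply, MulAut.conj_apply, τ', dif_pos hlt]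
    exact uGoodG2.toCommGood.toGood.tau_conj_x c hlt _
  have h2' : prodL chevG2 F chevG2.posRoots τ' = u := by
    rw [← h3, hτ, MulAut.conj_apply, ← hc, ← Subgroup.coe_mul, e, Subgroup.coe_mul, mul_inv_cancel_right]
  have h4 := huniq τ' ⟨fun r hr => by
    simp only [τ', hτ0 r hr, mul_zero]
    split <;> rfl, h2'⟩
  have hmem : prodL chevG2 F chevG2.posRoots τ ∈ (CC F).map (chevG2.group F).subtype := by
    refine list_prod_mem fun x hx => ?_
    obtain ⟨r, hr, rfl⟩ := List.mem_map.1 hx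
    have hlt : r < chevG2.nroots := (uGoodG2.toCommGood.toGood.mem_posRoots.1 hr).1
    by_cases hz : τ r = 0
    · rw [hz, uGoodG2.toCommGood.toGood.xg_zero]; exact one_mem _
    have h6 := congrFun h4 r
    simp only [τ', dif_pos hlt] at h6
    have h7 : ch (t0 : GG F) ⟨r, model.n_eq.symm ▸ hlt⟩ = 1 :=
      (chi_tau model hc _).trans ((mul_eq_right₀ hz).1 h6)
    exact ⟨_, x_mem_CC (ch_t0_eq_one h2 h7) (τ r), val_x model uGoodG2 _ _⟩
  obtain ⟨g, hg, hge⟩ := hmem
  rw [hτ] at hge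
  exact (Subtype.ext hge : g = u) ▸ hg

theorem centralizer_eq (h2 : (2 : F) ≠ 0) :
    Subgroup.centralizer ({t0} : Set (GG F)) = CC F := by
  refine le_antisymm (fun g hg => ?_) fun g hg => Subgroup.mem_centralizer_singleton_iff.2
    ((t0_comm g hg).eq)
  obtain ⟨u₀, hu₀, w, u, hu, k, hk, rfl, e1, e2, e3⟩ := exists_decomp model uGoodG2 longest_ok
    pos_span wit_ok (g := g) (S := {t0}) (fun y hy => hy ▸ t0_mem_H) (fun y hy => by
      rw [Set.mem_singleton_iff.1 hy]; exact Subgroup.mem_centralizer_singleton_iff.1 hg)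
  refine mul_mem (mul_mem (mem_CC_of_U h2 hu₀ (e1 _ rfl)) ?_)
    (mul_mem (mem_CC_of_U h2 hu (e2 _ rfl)) (H_le_CC hk))
  obtain ⟨v, hv, hact, h, hh, e⟩ := nw_reduce (F := F) w
  rw [e]
  refine mul_mem (nw_stab_mem v (weyl_stab v hv fun r => ?_)) (H_le_CC hh)
  have h5 := chi_conj model uGoodG2 w (t0_mem_H (F := F)) r
  rw [e3 _ rfl, hact] at h5
  have key : ∀ s : Fin model.tab.n, (s.val = 0 ∨ s.val = 4 ∨ s.val = 7 ∨ s.val = 11) →
      ch (t0 : GG F) s = 1 := by
    intro s hs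
    have : ∀ s : Fin model.tab.n, (s.val = 0 ∨ s.val = 4 ∨ s.val = 7 ∨ s.val = 11) →
        chevG2.pairing (ir : Fin model.tab.n).val s.val ∈ [(0 : ℤ), 2, -2] := by decide +kernel
    rw [ch_t0]
    have hs' := this s hs
    simp only [List.mem_cons, List.not_mem_nil, or_false] at hs'
    rcases hs' with h | h | h <;> rw [h] <;> norm_num
  exact ⟨fun hr => ch_t0_eq_one h2 (h5.trans (key r hr)),
    fun hr => ch_t0_eq_one h2 (h5.symm.trans (key _ hr))⟩

end Cfsg.Agent.CG26.G2Inv
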