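import Cfsg.Agent.CG26.G2Inv.Classes

/-!
One class of involutions in G2 over a finite field of odd order, and its centraliser.
-/

set_option autoImplicit false
set_option linter.unusedSectionVars false

namespace Cfsg.Agent.CG26.G2Inv

open Cfsg.Lie Cfsg.Agent.ChevGroup Cfsg.Agent.ChevCore Cfsg.Agent.ChevTori
open Cfsg.Agent.ChevGroup.TypeG2 (model)
open scoped MatrixGroups

variable {F : Type*} [Field F] [Fintype F]

theorem two_ne_zero' (hF : Odd (Fintype.card F)) : (2 : F) ≠ 0 := by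
  intro h
  have hc : ringChar F = 2 := CharP.ringChar_of_prime_eq_zero Nat.prime_two (by exact_mod_cast h)
  have := FiniteField.even_card_iff_char_two.1 hc
  rw [Nat.odd_iff] at hF
  omega

theorem index_odd (hF : Odd (Fintype.card F)) : ¬ 2 ∣ (CC F).index := by
  have hq1 : 1 < Fintype.card F := Fintype.one_lt_card
  obtain ⟨a, ha⟩ : ∃ a, Fintype.card F ^ 2 = a + 1 :=
    ⟨Fintype.card F ^ 2 - 1, by have := Nat.one_le_pow 2 _ (by omega : 0 < Fintype.card F); omega⟩
  set q := Fintype.card F with hq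
  have hG := ChevGroup.TypeG2.card_group (F := F)
    (torusFacts_of_good uGoodG2.toCommGood.toGood) (relsOfCommGood uGoodG2.toCommGood F) hq.symm
  have hC := card_CC (two_ne_zero' hF)
  have hS : Nat.card SL(2, F) = q * (q ^ 2 - 1) := by
    rw [LinearGroup.card_SL_two, Nat.card_eq_fintype_card]
  rw [hS, ha, Nat.add_sub_cancel] at hC
  have h6 : q ^ 6 - 1 = a * ((a + 1) * (a + 1) + (a + 1) + 1) := by
    rw [show q ^ 6 = (q ^ 2) ^ 3 by ring, ha,
      show (a + 1) ^ 3 = a * ((a + 1) * (a + 1) + (a + 1) + 1) + 1 by ring, Nat.add_sub_cancel]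
  rw [ha, Nat.add_sub_cancel, h6] at hG
  have hmul := (CC F).card_mul_index
  rw [hC, hG] at hmul
  have ha0 : 0 < a := by
    have : 2 ^ 2 ≤ q ^ 2 := Nat.pow_le_pow_left hq1 2
    omega
  have hi : (CC F).index = q ^ 4 * (q ^ 4 + q ^ 2 + 1) := by
    refine Nat.eq_of_mul_eq_mul_left (n := (q * a) ^ 2) (pow_pos (Nat.mul_pos (by omega) ha0) 2) ?_
    rw [hmul, show q ^ 4 + q ^ 2 + 1 = q ^ 2 * q ^ 2 + q ^ 2 + 1 by ring, ha]
    ring
  rw [hi]
  have ho : ∀ n : ℕ, Odd (q ^ n) := fun n => hF.pow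
  exact (((ho 4).mul (((ho 4).add_odd (ho 2)).add_one))).not_two_dvd_nat

/-- All involutions are conjugate to the central one. -/
theorem isConj_t0 (hF : Odd (Fintype.card F)) {t : GG F} (ht : orderOf t = 2) :
    IsConj t t0 := by
  have h2 := two_ne_zero' hF
  have hsq : t * t = 1 := by rw [← pow_two, ← ht, pow_orderOf_eq_one]
  have hne : t ≠ 1 := fun e => by rw [e, orderOf_one] at ht; omega
  haveI : Fact (Nat.Prime 2) := ⟨Nat.prime_two⟩
  have hP : IsPGroup 2 ↥(Subgroup.zpowers t) := IsPGroup.of_card (n := 1) (by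
    rw [Nat.card_zpowers, ht, pow_one])
  obtain ⟨c, hc⟩ := hP.nonempty_fixed_point_of_prime_not_dvd_card (GG F ⧸ CC F) (by
    rw [← Subgroup.index_eq_card]; exact index_odd hF)
  obtain ⟨g, rfl⟩ := QuotientGroup.mk_surjective c
  have hfix : t • (g : GG F ⧸ CC F) = g := hc ⟨t, Subgroup.mem_zpowers t⟩
  have hmem : g⁻¹ * t * g ∈ CC F := by
    have := QuotientGroup.eq.1 hfix.symm
    simpa [mul_assoc] using this
  obtain ⟨ε, d, ho⟩ := exists_outer (F := F) h2
  obtain ⟨hjd, htj⟩ := j0_conj h2 ho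
  refine (isConj_iff.2 ⟨g⁻¹, by rw [inv_inv]⟩ : IsConj t (g⁻¹ * t * g)).trans ?_
  by_cases h0 : g⁻¹ * t * g = t0
  · rw [h0]
  have hs : g⁻¹ * t * g * (g⁻¹ * t * g) = 1 := by
    rw [show g⁻¹ * t * g * (g⁻¹ * t * g) = g⁻¹ * (t * t) * g by group, hsq]; group
  have h1 : g⁻¹ * t * g ≠ 1 := fun e => hne (by
    rw [show t = g * (g⁻¹ * t * g) * g⁻¹ by group, e]; group)
  rcases classes_CC h2 ho hmem hs h1 h0 with ⟨-, e⟩ | ⟨-, e⟩
  · exact (htj.trans e).symm
  · exact ((htj.trans hjd).trans e).symm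

theorem centralizer_map (g x : GG F) :
    Subgroup.centralizer ({g * x * g⁻¹} : Set (GG F)) =
      (Subgroup.centralizer ({x} : Set (GG F))).map (MulAut.conj g).toMonoidHom := by
  ext y
  rw [Subgroup.map_equiv_eq_comap_symm', Subgroup.mem_comap, Subgroup.mem_centralizer_singleton_iff,
    Subgroup.mem_centralizer_singleton_iff]
  simp only [MulEquiv.coe_toMonoidHom, MulAut.conj_symm_apply]
  constructor
  · intro h
    calc g⁻¹ * y * g * x = g⁻¹ * (y * (g * x * g⁻¹)) * g := by group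
      _ = g⁻¹ * (g * x * g⁻¹ * y) * g := by rw [h]
      _ = _ := by group
  · intro h
    calc y * (g * x * g⁻¹) = g * (g⁻¹ * y * g * x) * g⁻¹ := by group
      _ = g * (x * (g⁻¹ * y * g)) * g⁻¹ := by rw [h]
      _ = _ := by group

theorem centralizer_data (hF : Odd (Fintype.card F)) (t : GG F) (ht : orderOf t = 2) :
    Nat.card (Subgroup.centralizer ({t} : Set (GG F))) =
        Fintype.card F ^ 2 * (Fintype.card F ^ 2 - 1) ^ 2 ∧
      ∃ L₁ L₂ : Subgroup (GG F), Nonempty (L₁ ≃* SL(2, F)) ∧ Nonempty (L₂ ≃* SL(2, F)) ∧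
        (∀ x ∈ L₁, ∀ y ∈ L₂, x * y = y * x) ∧ L₁ ⊓ L₂ = Subgroup.zpowers t ∧
        L₁ ⊔ L₂ ≤ Subgroup.centralizer ({t} : Set (GG F)) ∧
        (L₁ ⊔ L₂).relIndex (Subgroup.centralizer ({t} : Set (GG F))) = 2 := by
  have h2 := two_ne_zero' hF
  obtain ⟨g, hg⟩ := isConj_iff.1 (isConj_t0 hF ht).symm
  subst hg
  obtain ⟨ε, d, ho⟩ := exists_outer (F := F) h2
  have hinj : Function.Injective (MulAut.conj g).toMonoidHom := (MulAut.conj g).injective
  rw [centralizer_map, centralizer_eq h2]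
  have hsup : (phi (F := F) ir).range ⊔ (phi ia).range = LL F := (MonoidHom.noncommCoprod_range _ _ _).symm
  have hinf : (phi (F := F) ir).range ⊓ (phi ia).range = Subgroup.zpowers t0 := by
    refine le_antisymm ?_ (le_inf ?_ ?_)
    · rintro _ ⟨⟨p, rfl⟩, q, hq⟩
      rcases phi_centralizes hq.symm with rfl | rfl
      · rw [map_one]; exact one_mem _
      · rw [phi_ir_neg_one]; exact Subgroup.mem_zpowers _
    · exact Subgroup.zpowers_le.2 ⟨_, phi_ir_neg_one⟩
    · exact Subgroup.zpowers_le.2 ⟨_, phi_ia_neg_one⟩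
  refine ⟨?_, (phi ir).range.map (MulAut.conj g).toMonoidHom, (phi ia).range.map (MulAut.conj g).toMonoidHom,
    ⟨(((phi ir).range.equivMapOfInjective _ hinj).symm).trans (MonoidHom.ofInjective phi_ir_inj).symm⟩,
    ⟨(((phi ia).range.equivMapOfInjective _ hinj).symm).trans (MonoidHom.ofInjective phi_ia_inj).symm⟩,
    ?_, ?_, ?_, ?_⟩
  · rw [Subgroup.card_map_of_injective hinj, card_CC h2, LinearGroup.card_SL_two,
      Nat.card_eq_fintype_card, mul_pow]
  · rintro _ ⟨_, ⟨p, rfl⟩, rfl⟩ _ ⟨_, ⟨q, rfl⟩, rfl⟩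
    exact ((phi_comm p q).map (MulAut.conj g).toMonoidHom).eq
  · rw [← Subgroup.map_inf _ _ _ hinj, hinf, MonoidHom.map_zpowers]
    rfl
  · rw [← Subgroup.map_sup, hsup]
    exact Subgroup.map_mono LL_le
  · rw [← Subgroup.map_sup, hsup, Subgroup.relIndex_map_map_of_injective _ _ hinj]
    exact relIndex_LL ho

end Cfsg.Agent.CG26.G2Inv
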