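import Cfsg.Agent.CG26.G2Inv.Basic

/-!
The torus of G2 in the coordinates of the two orthogonal roots, and `(SL₂ ∘ SL₂) H`.
-/

set_option autoImplicit false
set_option linter.unusedSectionVars false

namespace Cfsg.Agent.CG26.G2Inv

open Cfsg.Lie Cfsg.Agent.ChevGroup Cfsg.Agent.ChevCore Cfsg.Agent.ChevTori
open Cfsg.Agent.ChevGroup.TypeG2 (model wit_ok longest_ok pos_span)
open scoped MatrixGroups

variable {F : Type*} [Field F]

theorem ch_mul {h k : GG F} (hh : h ∈ (RR F).H) (hk : k ∈ (RR F).H) (s : Fin model.tab.n) :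
    ch (h * k) s = ch h s * ch k s := chi_mul model uGoodG2 hh hk s

theorem ch_one (s : Fin model.tab.n) : ch (1 : GG F) s = 1 := by simp [ch, chi, Model.mat]

theorem simple0 : model.S.simple ⟨0, by decide⟩ = ia := by decide
theorem simple1 : model.S.simple ⟨1, by decide⟩ = ib := by decide

theorem torus_ext {h k : GG F} (hh : h ∈ (RR F).H) (hk : k ∈ (RR F).H) (ea : ch h ia = ch k ia)
    (eb : ch h ib = ch k ib) : h = k := by
  refine congrArg Subtype.val (psi_injective model uGoodG2 (a₁ := ⟨h, hh⟩) (a₂ := ⟨k, hk⟩)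
    (funext fun j => Units.ext ?_))
  rw [val_psi, val_psi]
  have hj : j.val < 2 := j.isLt
  obtain h0 | h1 : j.val = 0 ∨ j.val = 1 := by omega
  · rw [show j = (⟨0, by decide⟩ : Fin model.tab.l) from Fin.ext h0, simple0]; exact ea
  · rw [show j = (⟨1, by decide⟩ : Fin model.tab.l) from Fin.ext h1, simple1]; exact eb

theorem ch_ir {h : GG F} (hh : h ∈ (RR F).H) : ch h ir = ch h ia ^ 3 * ch h ib ^ 2 := by
  have : ∀ j : Fin model.tab.l, (model.S.simple j).val = (![7, 6] : Fin 2 → ℕ) ⟨j.val, j.isLt⟩ := by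
    decide +kernel
  rw [ch, chi_cf model uGoodG2 ⟨h, hh⟩,
    show (Finset.univ : Finset (Fin model.tab.l)) = {⟨0, by decide⟩, ⟨1, by decide⟩} by decide,
    Finset.prod_insert (by decide), Finset.prod_singleton, Units.val_mul, Units.val_zpow_eq_zpow_val,
    Units.val_zpow_eq_zpow_val, val_psi, val_psi, simple0, simple1,
    show cf model ir ⟨0, by decide⟩ = 3 by decide +kernel,
    show cf model ir ⟨1, by decide⟩ = 2 by decide +kernel]
  norm_cast

theorem ch_hr (r s : Fin model.tab.n) {c : F} (hc : c ≠ 0) {m : ℤ}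
    (hm : chevG2.pairing r.val s.val = m) : ch ((RR F).hr r c) s = c ^ m := hm ▸ hr_conj_x r s hc

theorem p_ra : chevG2.pairing (ir : Fin model.tab.n).val (ia : Fin model.tab.n).val = 0 := by decide +kernel
theorem p_rb : chevG2.pairing (ir : Fin model.tab.n).val (ib : Fin model.tab.n).val = 1 := by decide +kernel
theorem p_aa : chevG2.pairing (ia : Fin model.tab.n).val (ia : Fin model.tab.n).val = 2 := by decide +kernel
theorem p_ab : chevG2.pairing (ia : Fin model.tab.n).val (ib : Fin model.tab.n).val = -3 := by decide +kernel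

theorem exists_torus [Fintype F] (a b : Fˣ) :
    ∃ h ∈ (RR F).H, ch h ia = a ∧ ch h ib = b := by
  have hA := torusFacts_of_good uGoodG2.toCommGood.toGood
  have hcard : Nat.card ↥(RR F).H = Nat.card (Fin model.tab.l → Fˣ) := by
    rw [← model.card_H_eq (relsOfCommGood uGoodG2.toCommGood F),
      ChevFixed.TypeG2.card_torus hA (relsOfCommGood uGoodG2.toCommGood F), Nat.card_fun, Nat.card_units,
      Nat.card_eq_fintype_card, Nat.card_eq_fintype_card, Fintype.card_fin]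
    rfl
  have hbij : Function.Bijective (psi (F := F) model uGoodG2) :=
    (Nat.bijective_iff_injective_and_card _).2 ⟨psi_injective model uGoodG2, hcard⟩
  obtain ⟨⟨h, hh⟩, he⟩ := hbij.2 fun j => if j.val = 0 then a else b
  refine ⟨h, hh, ?_, ?_⟩
  · rw [← simple0, ch, ← val_psi model uGoodG2 ⟨h, hh⟩, he]; simp
  · rw [← simple1, ch, ← val_psi model uGoodG2 ⟨h, hh⟩, he]; simp

/-- The central involution. -/
noncomputable def t0 : GG F := (RR F).hr ir (-1)

theorem t0_mem_H : t0 (F := F) ∈ (RR F).H := (RR F).hr_mem_H (neg_ne_zero.2 one_ne_zero)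

theorem neg_one_eq : (-1 : SL(2, F)) = ph slU slL (-1 : F) := by
  refine Subtype.ext ?_
  rw [ph_sl (neg_ne_zero.2 one_ne_zero)]
  ext i j
  fin_cases i <;> fin_cases j <;> simp [Matrix.SpecialLinearGroup.coe_neg, inv_neg]

theorem phi_ir_neg_one : phi ir (-1 : SL(2, F)) = t0 := by rw [neg_one_eq, phi_ph]; rfl

theorem phi_ia_neg_one : phi ia (-1 : SL(2, F)) = t0 := by
  have h1 : (-1 : F) ≠ 0 := neg_ne_zero.2 one_ne_zero
  rw [neg_one_eq, phi_ph]
  refine torus_ext ((RR F).hr_mem_H h1) t0_mem_H ?_ ?_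
  · rw [t0, ch_hr _ _ h1 p_ra, ch_hr _ _ h1 p_aa]; norm_num
  · rw [t0, ch_hr _ _ h1 p_rb, ch_hr _ _ h1 p_ab]; norm_num

theorem Phi_neg_one : Phi ((-1 : SL(2, F)), (-1 : SL(2, F))) = 1 := by
  show phi ir (-1 : SL(2, F)) * phi ia (-1 : SL(2, F)) = 1
  rw [phi_ia_neg_one, ← phi_ir_neg_one, ← map_mul, neg_mul_neg, one_mul, map_one]

/-- `(SL₂ ∘ SL₂) H`. -/
noncomputable def CC (F : Type*) [Field F] : Subgroup (GG F) where
  carrier := {g | ∃ p, ∃ h ∈ (RR F).H, g = Phi p * h}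
  one_mem' := ⟨1, 1, one_mem _, by simp⟩
  mul_mem' := by
    rintro _ _ ⟨p, h, hh, rfl⟩ ⟨q, k, hk, rfl⟩
    refine ⟨p * (dconj (chU hh ir) q.1, dconj (chU hh ia) q.2), h * k, mul_mem hh hk, ?_⟩
    rw [map_mul, ← conj_Phi hh q]
    group
  inv_mem' := by
    rintro _ ⟨p, h, hh, rfl⟩
    refine ⟨(dconj (chU (inv_mem hh) ir) p.1⁻¹, dconj (chU (inv_mem hh) ia) p.2⁻¹), h⁻¹, inv_mem hh, ?_⟩
    have := conj_Phi (inv_mem hh) p⁻¹
    rw [Prod.fst_inv, Prod.snd_inv] at this
    rw [← this, map_inv]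
    group

theorem H_le_CC {h : GG F} (hh : h ∈ (RR F).H) : h ∈ CC F := ⟨1, h, hh, by simp⟩

theorem Phi_mem_CC (p : SL(2, F) × SL(2, F)) : Phi p ∈ CC F := ⟨p, 1, one_mem _, by simp⟩

theorem x_mem_CC {r : Fin model.tab.n} (hr : r.val = 0 ∨ r.val = 4 ∨ r.val = 7 ∨ r.val = 11) (t : F) :
    (RR F).x r t ∈ CC F := by
  have key : ∀ (p : SL(2, F)), phi ir p ∈ CC F ∧ phi ia p ∈ CC F := fun p =>
    ⟨by simpa [Phi_apply] using Phi_mem_CC (p, (1 : SL(2, F))),
      by simpa [Phi_apply] using Phi_mem_CC ((1 : SL(2, F)), p)⟩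
  rcases hr with h | h | h | h
  · rw [show r = model.S.neg ir from Fin.ext (h.trans (by decide)), ← phi_L]; exact (key _).1
  · rw [show r = model.S.neg ia from Fin.ext (h.trans (by decide)), ← phi_L]; exact (key _).2
  · rw [show r = ia from Fin.ext h, ← phi_U]; exact (key _).2
  · rw [show r = ir from Fin.ext h, ← phi_U]; exact (key _).1

theorem ch_t0 (s : Fin model.tab.n) :
    ch (t0 : GG F) s = (-1) ^ chevG2.pairing (ir : Fin model.tab.n).val s.val :=
  hr_conj_x ir s (neg_ne_zero.2 one_ne_zero)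

theorem ch_t0_eq_one (h2 : (2 : F) ≠ 0) {s : Fin model.tab.n} (h : ch (t0 : GG F) s = 1) :
    s.val = 0 ∨ s.val = 4 ∨ s.val = 7 ∨ s.val = 11 := by
  have key : ∀ s : Fin model.tab.n, (s.val = 0 ∨ s.val = 4 ∨ s.val = 7 ∨ s.val = 11) ∨
      chevG2.pairing (ir : Fin model.tab.n).val s.val = 1 ∨
      chevG2.pairing (ir : Fin model.tab.n).val s.val = -1 := by decide +kernel
  rw [ch_t0] at h
  rcases key s with h' | h' | h'
  · exact h'
  all_goals
    rw [h'] at h
    exact absurd (by simpa using h : (-1 : F) = 1) fun e => h2 (by linear_combination -e)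

theorem t0_comm (g : GG F) (hg : g ∈ CC F) : Commute g t0 := by
  obtain ⟨p, h, hh, rfl⟩ := hg
  refine Commute.mul_left ?_ (H_commute model uGoodG2 hh t0_mem_H)
  rw [← phi_ir_neg_one, show phi ir (-1 : SL(2, F)) = Phi ((-1 : SL(2, F)), (1 : SL(2, F))) by simp [Phi_apply]]
  exact (show Commute p ((-1 : SL(2, F)), (1 : SL(2, F))) from
    Prod.ext (by simp) (by simp)).map Phi

end Cfsg.Agent.CG26.G2Inv
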